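import Cfsg.Agent.R2.T1.Pat2.ChkA
import Cfsg.Agent.Prune
set_option linter.all false
prune_inst 0x7f00000000000000000000000000000000000000000000000000000000000000000000000000000000000000000000000000000000000000000000000000000000000000000000000000000000000000003fffffffffffffffffffffffffffbeffbdffffffff
open scoped Cfsg.Agent.FastGrp

set_option autoImplicit false
set_option maxRecDepth 100000

namespace Cfsg.Agent.R2.T1.Pat2

theorem chk67 : chkQ 15 (QP 32 12 0 67 32 1 P67) = true := by
  delta chkQ
  rw [Fq.cV_eq (N := 15) (by decide), Fq.cL_eq (N := 15) (by decide)]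
  decide +kernel

end Cfsg.Agent.R2.T1.Pat2
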