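import Cfsg.Agent.R2.T1.Pat2.ChkA
import Cfsg.Agent.Prune
set_option linter.all false
prune_inst 0x7f00000000000000000000000000000000000000000000000000000000000000000000000000000000000000000000000000000000000000000000000000000000000000000000000000000000000000003fffffffffffffffffffffffffffbeffbdffffffff
open scoped Cfsg.Agent.FastGrp

set_option autoImplicit false
set_option maxRecDepth 100000

namespace Cfsg.Agent.R2.T1.Pat2

/-- rational elements of order 15: the multiplicities of `1` in terms of the class of the 5th power (order 3) -/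
def QR (f g : ℕ → ℕ) : Bool :=
  !(Nat.beq (f 1) (f 2)) || (!(Nat.beq (f 2) (f 4)) || (!(Nat.beq (f 3) (f 6)) || (!(Nat.beq (f 5) (f 10)) ||
  (!(Nat.beq (f 0 + (f 5 + f 10)) 16) || (!(Nat.beq (g 1) (g 2)) || (!(Nat.beq (g 2) (g 4)) ||
  (!(Nat.beq (g 3) (g 6)) || (!(Nat.beq (g 5) (g 10)) || (!(Nat.beq (g 0 + (g 5 + g 10)) 33) ||
  ((!(Nat.beq (f 0 + (f 3 + (f 6 + (f 9 + f 12)))) 32) || (Nat.beq (f 0) 0 || Nat.beq (f 0) 8)) &&
  ((!(Nat.beq (f 0 + (f 3 + (f 6 + (f 9 + f 12)))) 20) || (Nat.beq (f 0) 4 || Nat.beq (f 0) 12)) &&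
  (!(Nat.beq (g 0 + (g 3 + (g 6 + (g 9 + g 12)))) 43) || Nat.beq (g 0) 15))))))))))))

theorem chkR : chkQ 15 QR = true := by
  delta chkQ
  rw [Fq.cV_eq (N := 15) (by decide), Fq.cL_eq (N := 15) (by decide)]
  decide +kernel

end Cfsg.Agent.R2.T1.Pat2
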